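import Cfsg.Agent.H624.Sl.Defs
import Cfsg.Agent.H152.Blocks

/-!
# S4536 (LA2'): determinants of elements of the centralizer (helper451 for helper624)

* `det_exact` : determinants and exact sequences;
* `det_mulLeft_pow` : `det (a | F[X]/(φ^m)) = det (a | F[X]/(φ)) ^ m`;
* `exists_commute` : an element commuting with `T` and acting on one cyclic summand only;
* `pow_eq_one_of_centralizer_le` (LA2').
-/

set_option autoImplicit false

open Cfsg Polynomial
open scoped MatrixGroups

namespace Cfsg.Agent.H451.Sl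

open Cfsg.Agent.H152

section exact

variable {F : Type*} [Field F]

/-- factorisation through a surjection -/
theorem exists_factor {P A B : Type*} [AddCommGroup P] [Module F P] [AddCommGroup A] [Module F A] [AddCommGroup B]
    [Module F B] (p : P →ₗ[F] A) (hp : Function.Surjective p) (s : P →ₗ[F] B)
    (h : ∀ x, p x = 0 → s x = 0) : ∃ i : A →ₗ[F] B, ∀ x, i (p x) = s x := by
  refine ⟨((LinearMap.ker p).liftQ s fun x hx => h x hx).comp (p.quotKerEquivOfSurjective hp).symm.toLinearMap,
    fun x => ?_⟩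
  have h1 : (p.quotKerEquivOfSurjective hp).symm (p x) = Submodule.Quotient.mk x := by
    rw [LinearEquiv.symm_apply_eq]
    rfl
  rw [LinearMap.comp_apply, LinearEquiv.coe_toLinearMap, h1]
  rfl

/-- **determinants and exact sequences** -/
theorem det_exact {N V Q : Type*} [AddCommGroup N] [Module F N] [AddCommGroup V] [Module F V] [AddCommGroup Q]
    [Module F Q] [FiniteDimensional F V] (i : N →ₗ[F] V) (hi : Function.Injective i) (π : V →ₗ[F] Q)
    (hπ : Function.Surjective π) (he : LinearMap.range i = LinearMap.ker π) (fN : N →ₗ[F] N) (f : V →ₗ[F] V)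
    (fQ : Q →ₗ[F] Q) (h1 : ∀ x, f (i x) = i (fN x)) (h2 : ∀ v, π (f v) = fQ (π v)) :
    LinearMap.det f = LinearMap.det fN * LinearMap.det fQ := by
  have hk : LinearMap.ker π ≤ (LinearMap.ker π).comap f := by
    intro v hv
    rw [Submodule.mem_comap, LinearMap.mem_ker, h2, LinearMap.mem_ker.1 hv, map_zero]
  rw [LinearMap.det_eq_det_mul_det (LinearMap.ker π) f hk]
  congr 1
  · -- the kernel
    let e : N ≃ₗ[F] LinearMap.ker π := (LinearEquiv.ofInjective i hi).trans (LinearEquiv.ofEq _ _ he)
    have h3 : f.restrict hk = (e.toLinearMap ∘ₗ fN) ∘ₗ e.symm.toLinearMap := by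
      apply LinearMap.ext
      intro v
      obtain ⟨x, rfl⟩ := e.surjective v
      apply Subtype.ext
      change f (i x) = i (fN (e.symm (e x)))
      rw [e.symm_apply_apply, h1]
    rw [h3]
    exact LinearMap.det_conj fN e
  · let e : (V ⧸ LinearMap.ker π) ≃ₗ[F] Q := π.quotKerEquivOfSurjective hπ
    have h3 : fQ = (e.toLinearMap ∘ₗ (LinearMap.ker π).mapQ (LinearMap.ker π) f hk) ∘ₗ e.symm.toLinearMap := by
      apply LinearMap.ext
      intro v
      obtain ⟨x, rfl⟩ := hπ v
      have h4 : e.symm (π x) = Submodule.Quotient.mk x := by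
        rw [LinearEquiv.symm_apply_eq]
        rfl
      rw [LinearMap.comp_apply, LinearMap.comp_apply, LinearEquiv.coe_toLinearMap, LinearEquiv.coe_toLinearMap, h4,
        ← h2]
      rfl
    rw [h3]
    exact (LinearMap.det_conj _ e).symm

/-- the projection `F[X] → F[X] / (h)`, `F`-linear -/
noncomputable def mkL (h : F[X]) : F[X] →ₗ[F] AdjoinRoot h := (AdjoinRoot.mkₐ (R := F) h).toLinearMap

theorem mkL_apply (h a : F[X]) : mkL h a = AdjoinRoot.mk h a := rfl

theorem mkL_surjective (h : F[X]) : Function.Surjective (mkL h) := AdjoinRoot.mk_surjective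

theorem mkL_eq_zero {h a : F[X]} : mkL h a = 0 ↔ h ∣ a := AdjoinRoot.mk_eq_zero

/-- **the norm of `F[X] / (φ ^ m)`** -/
theorem det_mulLeft_pow {φ : F[X]} (hφ : φ ≠ 0) (a : F[X]) (m : ℕ) :
    LinearMap.det (LinearMap.mulLeft F (AdjoinRoot.mk (φ ^ m) a)) =
      LinearMap.det (LinearMap.mulLeft F (AdjoinRoot.mk φ a)) ^ m := by
  induction m with
  | zero =>
    have h1 : Subsingleton (AdjoinRoot (φ ^ 0)) := by
      refine ⟨fun x y => ?_⟩
      obtain ⟨x, rfl⟩ := AdjoinRoot.mk_surjective x
      obtain ⟨y, rfl⟩ := AdjoinRoot.mk_surjective y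
      rw [AdjoinRoot.mk_eq_mk, pow_zero]
      exact one_dvd _
    have h2 : LinearMap.det (LinearMap.mulLeft F (AdjoinRoot.mk (φ ^ 0) a)) = 1 :=
      LinearMap.det_eq_one_of_subsingleton _
    rw [h2]
    exact (pow_zero _).symm
  | succ m ih =>
    have hfin : Module.Finite F (AdjoinRoot (φ ^ (m + 1))) := (AdjoinRoot.powerBasis (pow_ne_zero _ hφ)).finite
    obtain ⟨i, hi⟩ := exists_factor (mkL (φ ^ m)) (mkL_surjective _)
      ((mkL (φ ^ (m + 1))).comp (LinearMap.mulLeft F φ)) (by
        intro x hx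
        rw [mkL_eq_zero] at hx
        change mkL (φ ^ (m + 1)) (φ * x) = 0
        rw [mkL_eq_zero, pow_succ']
        exact mul_dvd_mul_left φ hx)
    obtain ⟨π, hπ⟩ := exists_factor (mkL (φ ^ (m + 1))) (mkL_surjective _) (mkL φ) (by
        intro x hx
        rw [mkL_eq_zero] at hx ⊢
        exact (dvd_pow_self φ (Nat.succ_ne_zero m)).trans hx)
    have hi' : ∀ x, i (mkL (φ ^ m) x) = mkL (φ ^ (m + 1)) (φ * x) := hi
    have hs : LinearMap.det (LinearMap.mulLeft F (AdjoinRoot.mk φ a)) ^ (m + 1) =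
        LinearMap.det (LinearMap.mulLeft F (AdjoinRoot.mk (φ ^ m) a)) *
          LinearMap.det (LinearMap.mulLeft F (AdjoinRoot.mk φ a)) := by
      rw [ih]
      exact pow_succ _ _
    rw [hs]
    refine det_exact i ?_ π ?_ ?_ _ _ _ ?_ ?_
    · rw [← LinearMap.ker_eq_bot, LinearMap.ker_eq_bot']
      intro x hx
      obtain ⟨x, rfl⟩ := mkL_surjective _ x
      rw [hi', mkL_eq_zero, pow_succ'] at hx
      rw [mkL_eq_zero]
      exact (mul_dvd_mul_iff_left hφ).1 hx
    · intro x
      obtain ⟨x, rfl⟩ := mkL_surjective _ x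
      exact ⟨mkL _ x, hπ x⟩
    · ext y
      obtain ⟨y, rfl⟩ := mkL_surjective _ y
      rw [LinearMap.mem_ker, hπ, mkL_eq_zero, LinearMap.mem_range]
      constructor
      · rintro ⟨x, hx⟩
        obtain ⟨x, rfl⟩ := mkL_surjective _ x
        rw [hi', mkL_apply, mkL_apply, AdjoinRoot.mk_eq_mk] at hx
        have h3 : φ ∣ φ * x - y := (dvd_pow_self φ (Nat.succ_ne_zero m)).trans hx
        exact (dvd_sub_right (dvd_mul_right φ x)).1 h3
      · rintro ⟨z, rfl⟩
        exact ⟨mkL _ z, hi' z⟩
    · intro x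
      obtain ⟨x, rfl⟩ := mkL_surjective _ x
      rw [hi', LinearMap.mulLeft_apply, LinearMap.mulLeft_apply, mkL_apply, mkL_apply, ← map_mul, ← map_mul]
      rw [← mkL_apply, ← mkL_apply, hi']
      congr 1
      ring
    · intro x
      obtain ⟨x, rfl⟩ := mkL_surjective _ x
      rw [LinearMap.mulLeft_apply, LinearMap.mulLeft_apply, hπ, mkL_apply, mkL_apply, ← map_mul, ← map_mul,
        ← mkL_apply, ← mkL_apply, hπ]

end exact

section commute

variable {F : Type*} [Field F] {V : Type*} [AddCommGroup V] [Module F V] [FiniteDimensional F V]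

open Classical in
/-- **an endomorphism commuting with `T`** and acting on one summand only -/
theorem exists_commute {T : Module.End F V} {ι : Type*} [Fintype ι] {g : ι → F[X]} {v : ι → V} (h : IsCyc T g v)
    (i₀ : ι) (u : AdjoinRoot (g i₀)) :
    ∃ c : Module.End F V, c * T = T * c ∧ LinearMap.det c = LinearMap.det (LinearMap.mulLeft F u) := by
  let D : (∀ i, AdjoinRoot (g i)) →ₗ[F] (∀ i, AdjoinRoot (g i)) :=
    { toFun := fun x => Function.update x i₀ (u * x i₀)
      map_add' := fun x y => by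
        funext i
        by_cases hi : i = i₀
        · subst hi
          simp [mul_add]
        · simp [Function.update_of_ne hi]
      map_smul' := fun a x => by
        funext i
        by_cases hi : i = i₀
        · subst hi
          simp
        · simp [Function.update_of_ne hi] }
  have hD0 : ∀ x, D x i₀ = u * x i₀ := fun x => Function.update_self i₀ (u * x i₀) x
  have hD1 : ∀ x i, i ≠ i₀ → D x i = x i := fun x i hi => Function.update_of_ne hi (u * x i₀) x
  let E := h.equiv
  let c : Module.End F V := (E.symm.toLinearMap.comp D).comp E.toLinearMap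
  have hc : ∀ x, E (c x) = D (E x) := fun x => E.apply_symm_apply _
  refine ⟨c, ?_, ?_⟩
  · apply LinearMap.ext
    intro x
    apply E.injective
    funext i
    have hT : ∀ x i, E (T x) i = AdjoinRoot.mk (g i) X * E x i := by
      intro x i
      have h1 := h.equiv_aeval X x i
      rwa [aeval_X] at h1
    rw [Module.End.mul_apply, Module.End.mul_apply, hc, hT]
    by_cases hi : i = i₀
    · subst hi
      rw [hD0, hT, hc, hD0]
      ring
    · rw [hD1 _ _ hi, hT, hc, hD1 _ _ hi]
  · let π : V →ₗ[F] AdjoinRoot (g i₀) := (LinearMap.proj i₀).comp E.toLinearMap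
    have hπ : ∀ x, π x = E x i₀ := fun x => rfl
    have h1 := det_exact (LinearMap.ker π).subtype (LinearMap.ker π).injective_subtype π (by
      intro y
      refine ⟨E.symm (Pi.single i₀ y), ?_⟩
      rw [hπ, E.apply_symm_apply, Pi.single_eq_same]) (Submodule.range_subtype _) LinearMap.id c
      (LinearMap.mulLeft F u) (by
        intro x
        apply E.injective
        funext i
        have h2 : E x i₀ = 0 := x.2
        rw [hc]
        by_cases hi : i = i₀
        · subst hi
          rw [hD0]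
          change u * E x i = E x i
          rw [h2, mul_zero]
        · rw [hD1 _ _ hi]
          rfl) (by
        intro x
        rw [hπ, hπ, hc, hD0, LinearMap.mulLeft_apply])
    rw [h1, LinearMap.det_id, one_mul]

end commute

section main

open Cfsg.Agent.H624.Sl

universe u

variable {F : Type u} [Field F] {n : ℕ}

theorem kd_mul_C (x : GL (Fin n) F) {a : F} (ha : a ≠ 0) (g : F[X]) : kd x (C a * g) = kd x g := by
  unfold kd
  have h1 : LinearMap.ker (aeval (Matrix.toLin' x.1) (C a * g)) = LinearMap.ker (aeval (Matrix.toLin' x.1) g) := by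
    ext v
    rw [LinearMap.mem_ker, LinearMap.mem_ker, map_mul, aeval_C, Module.algebraMap_end_eq_smul_id,
      Module.End.mul_apply, LinearMap.smul_apply, LinearMap.id_apply, smul_eq_zero_iff_right ha]
  rw [h1]

theorem exists_monic {f : F[X]} (hf : Irreducible f) : ∃ φ : F[X], φ.Monic ∧ Irreducible φ ∧
    ∀ (x : GL (Fin n) F) (j : ℕ), kd x (f ^ j) = kd x (φ ^ j) := by
  have hl : f.leadingCoeff ≠ 0 := leadingCoeff_ne_zero.2 hf.ne_zero
  refine ⟨f * C f.leadingCoeff⁻¹, monic_mul_leadingCoeff_inv hf.ne_zero, ?_, fun x j => ?_⟩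
  · exact (associated_mul_unit_right f _ (isUnit_C.2 (isUnit_iff_ne_zero.2 (inv_ne_zero hl)))).irreducible hf
  · rw [mul_pow, ← C_pow, mul_comm, kd_mul_C x (pow_ne_zero _ (inv_ne_zero hl))]

/-- **LA2'** -/
theorem pow_eq_one_of_centralizer_le [Finite F] (x : GL (Fin n) F) (α : Fˣ →* ℂˣ)
    (h : Subgroup.centralizer ({x} : Set (GL (Fin n) F)) ≤ (dch n α).ker) (f : F[X])
    (hf : Irreducible f) (i : ℕ) (hi : kd x (f ^ (i + 2)) + kd x (f ^ i) ≠ 2 * kd x (f ^ (i + 1)))
    (z : Fˣ) : α z ^ (i + 1) = 1 := by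
  classical
  obtain ⟨φ, hφm, hφi, hkd⟩ := exists_monic (n := n) hf
  rw [hkd, hkd, hkd] at hi
  obtain ⟨d, p, e, v, hdec⟩ := exists_dec (Matrix.toLin' x.1)
  -- a summand of type `φ ^ (i + 1)`
  obtain ⟨i₀, hp, he⟩ : ∃ i₀, p i₀ = φ ∧ e i₀ = i + 1 := by
    by_contra hno
    push Not at hno
    apply hi
    unfold kd
    rw [hdec.finrank_ker_pow hφm hφi, hdec.finrank_ker_pow hφm hφi, hdec.finrank_ker_pow hφm hφi,
      ← Finset.sum_add_distrib, Finset.mul_sum]
    refine Finset.sum_congr rfl fun j _ => ?_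
    by_cases hj : p j = φ
    · rw [if_pos hj, if_pos hj, if_pos hj, ← add_mul, ← mul_assoc]
      have h1 := hno j hj
      congr 1
      omega
    · rw [if_neg hj, if_neg hj, if_neg hj, mul_zero, add_zero]
  subst hp
  -- the norm
  have : Fact (Irreducible (p i₀)) := ⟨hφi⟩
  have hfin : Module.Finite F (AdjoinRoot (p i₀)) := (AdjoinRoot.powerBasis hφi.ne_zero).finite
  have hfin2 : Finite (AdjoinRoot (p i₀)) := Module.finite_of_finite F
  obtain ⟨y, hy⟩ := FiniteField.norm_surjective F (AdjoinRoot (p i₀)) (z : F)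
  obtain ⟨a, rfl⟩ := AdjoinRoot.mk_surjective y
  obtain ⟨c, hcT, hdet⟩ := exists_commute hdec.cyc i₀ (AdjoinRoot.mk (p i₀ ^ e i₀) a)
  rw [det_mulLeft_pow hφi.ne_zero, he] at hdet
  have hdet' : LinearMap.det c = (z : F) ^ (i + 1) := by
    rw [hdet, ← hy, Algebra.norm_apply]
    rfl
  have hm : (LinearMap.toMatrix' c).det = (z : F) ^ (i + 1) := by
    rw [LinearMap.det_toMatrix', hdet']
  have hne : (LinearMap.toMatrix' c).det ≠ 0 := by
    rw [hm]
    exact pow_ne_zero _ z.ne_zero
  let γ : GL (Fin n) F := Matrix.GeneralLinearGroup.mkOfDetNeZero (LinearMap.toMatrix' c) hne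
  have hγ : γ ∈ Subgroup.centralizer ({x} : Set (GL (Fin n) F)) := by
    rw [Subgroup.mem_centralizer_singleton_iff]
    apply Units.ext
    change LinearMap.toMatrix' c * x.1 = x.1 * LinearMap.toMatrix' c
    have h1 := congrArg LinearMap.toMatrix' hcT
    rw [LinearMap.toMatrix'_mul, LinearMap.toMatrix'_mul, LinearMap.toMatrix'_toLin'] at h1
    exact h1
  have h1 := h hγ
  rw [MonoidHom.mem_ker] at h1
  have h2 : Matrix.GeneralLinearGroup.det γ = z ^ (i + 1) := by
    apply Units.ext
    rw [Units.val_pow_eq_pow_val]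
    exact hm
  rw [← map_pow, ← h2]
  exact h1

end main

end Cfsg.Agent.H451.Sl
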